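import Mathlib
import Cfsg.Agent.H160.QFinal
import Cfsg.Agent.H767.EM.LemK

/-!
# S2243, orthogonal groups, q odd: quarter turns of the planes of an orthonormal basis (helper767)
-/

set_option autoImplicit false
set_option linter.unusedSectionVars false

namespace Cfsg.Agent.H767.EMA

open QuadraticMap Module
open Cfsg.Agent.LieClassical.OrthCore Cfsg.Agent.H160.QSpin Cfsg.Agent.H160.QDisc Cfsg.Agent.H160.QSplit

section model

variable {F : Type*} [Field F] {κ : Type} [Fintype κ] [DecidableEq κ]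

/-- `Σ xₚ²` -/
noncomputable def WW (F : Type*) [Field F] (κ : Type) [Fintype κ] : QuadraticForm F (κ × Fin 2 → F) :=
  weightedSumSquares F (fun _ : κ × Fin 2 => (1 : F))

theorem WW_apply (x : κ × Fin 2 → F) : WW F κ x = ∑ p, x p * x p := by
  rw [WW, weightedSumSquares_apply]
  simp

theorem WW_apply' (x : κ × Fin 2 → F) : WW F κ x = ∑ i, (x (i, 0) * x (i, 0) + x (i, 1) * x (i, 1)) := by
  rw [WW_apply, Fintype.sum_prod_type]
  simp only [Fin.sum_univ_two]

/-- quarter turns of the planes in `T` -/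
def rt (F : Type*) [Field F] (T : Finset κ) : (κ × Fin 2 → F) ≃ₗ[F] (κ × Fin 2 → F) where
  toFun x p := if p.1 ∈ T then (if p.2 = 0 then - x (p.1, 1) else x (p.1, 0)) else x p
  invFun x p := if p.1 ∈ T then (if p.2 = 0 then x (p.1, 1) else - x (p.1, 0)) else x p
  map_add' x y := by
    funext p
    simp only [Pi.add_apply]
    split_ifs <;> ring
  map_smul' a x := by
    funext p
    simp only [Pi.smul_apply, smul_eq_mul, RingHom.id_apply]
    split_ifs <;> ring
  left_inv x := by
    funext ⟨i, s⟩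
    by_cases h : i ∈ T <;> fin_cases s <;> simp [h]
  right_inv x := by
    funext ⟨i, s⟩
    by_cases h : i ∈ T <;> fin_cases s <;> simp [h]

theorem rt_apply (T : Finset κ) (x : κ × Fin 2 → F) (p : κ × Fin 2) :
    rt F T x p = if p.1 ∈ T then (if p.2 = 0 then - x (p.1, 1) else x (p.1, 0)) else x p := rfl

/-- swapping two planes -/
def sw (F : Type*) [Field F] (i j : κ) : (κ × Fin 2 → F) ≃ₗ[F] (κ × Fin 2 → F) :=
  LinearEquiv.funCongrLeft F F ((Equiv.swap i j).prodCongr (Equiv.refl (Fin 2)))

theorem sw_apply (i j : κ) (x : κ × Fin 2 → F) (p : κ × Fin 2) : sw F i j x p = x (Equiv.swap i j p.1, p.2) := rfl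

/-- swapping the two coordinates of the planes in `T` -/
def fl (F : Type*) [Field F] (T : Finset κ) : (κ × Fin 2 → F) ≃ₗ[F] (κ × Fin 2 → F) where
  toFun x p := if p.1 ∈ T then x (p.1, Equiv.swap 0 1 p.2) else x p
  invFun x p := if p.1 ∈ T then x (p.1, Equiv.swap 0 1 p.2) else x p
  map_add' x y := by
    funext p
    simp only [Pi.add_apply]
    split_ifs <;> ring
  map_smul' a x := by
    funext p
    simp only [Pi.smul_apply, smul_eq_mul, RingHom.id_apply]
    split_ifs <;> ring
  left_inv x := by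
    funext ⟨i, s⟩
    by_cases h : i ∈ T <;> fin_cases s <;> simp [h]
  right_inv x := by
    funext ⟨i, s⟩
    by_cases h : i ∈ T <;> fin_cases s <;> simp [h]

theorem fl_apply (T : Finset κ) (x : κ × Fin 2 → F) (p : κ × Fin 2) :
    fl F T x p = if p.1 ∈ T then x (p.1, Equiv.swap 0 1 p.2) else x p := rfl

/-- swapping two coordinates of the same sort -/
def hs (F : Type*) [Field F] (t : Fin 2) (i j : κ) : (κ × Fin 2 → F) ≃ₗ[F] (κ × Fin 2 → F) where
  toFun x p := if p.2 = t then x (Equiv.swap i j p.1, p.2) else x p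
  invFun x p := if p.2 = t then x (Equiv.swap i j p.1, p.2) else x p
  map_add' x y := by
    funext p
    simp only [Pi.add_apply]
    split_ifs <;> ring
  map_smul' a x := by
    funext p
    simp only [Pi.smul_apply, smul_eq_mul, RingHom.id_apply]
    split_ifs <;> ring
  left_inv x := by
    funext ⟨l, s⟩
    by_cases h : s = t <;> simp [h]
  right_inv x := by
    funext ⟨l, s⟩
    by_cases h : s = t <;> simp [h]

theorem hs_apply (t : Fin 2) (i j : κ) (x : κ × Fin 2 → F) (p : κ × Fin 2) :
    hs F t i j x p = if p.2 = t then x (Equiv.swap i j p.1, p.2) else x p := rfl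

theorem mul_app {V : Type*} [AddCommGroup V] [Module F V] (g h : V ≃ₗ[F] V) (x : V) : (g * h) x = g (h x) := rfl

theorem rt_mem (T : Finset κ) : rt F T ∈ O (WW F κ) := by
  intro x
  rw [WW_apply', WW_apply']
  refine Finset.sum_congr rfl fun i _ => ?_
  by_cases h : i ∈ T
  · simp only [rt_apply, h, if_true, if_neg (one_ne_zero (α := Fin 2))]; ring
  · simp only [rt_apply, h, if_false]

theorem sw_mem (i j : κ) : sw F i j ∈ O (WW F κ) := by
  intro x
  rw [WW_apply', WW_apply', ← Equiv.sum_comp (Equiv.swap i j)]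
  refine Finset.sum_congr rfl fun l _ => ?_
  simp only [sw_apply, Equiv.swap_apply_self]

theorem fl_mem (T : Finset κ) : fl F T ∈ O (WW F κ) := by
  intro x
  rw [WW_apply', WW_apply']
  refine Finset.sum_congr rfl fun i _ => ?_
  by_cases h : i ∈ T
  · simp only [fl_apply, h, if_true, Equiv.swap_apply_left, Equiv.swap_apply_right]; ring
  · simp only [fl_apply, h, if_false]

theorem hs_mem (t : Fin 2) (i j : κ) : hs F t i j ∈ O (WW F κ) := by
  intro x
  rw [WW_apply', WW_apply', Finset.sum_add_distrib, Finset.sum_add_distrib]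
  congr 1
  · by_cases h : (0 : Fin 2) = t
    · rw [← Equiv.sum_comp (Equiv.swap i j)]
      refine Finset.sum_congr rfl fun l _ => ?_
      simp only [hs_apply, h, if_true, Equiv.swap_apply_self]
    · simp only [hs_apply, h, if_false]
  · by_cases h : (1 : Fin 2) = t
    · rw [← Equiv.sum_comp (Equiv.swap i j)]
      refine Finset.sum_congr rfl fun l _ => ?_
      simp only [hs_apply, h, if_true, Equiv.swap_apply_self]
    · simp only [hs_apply, h, if_false]

theorem rt_comm (T T' : Finset κ) : rt F T * rt F T' = rt F T' * rt F T := by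
  ext1 x
  funext ⟨i, s⟩
  rw [mul_app, mul_app]
  by_cases h : i ∈ T <;> by_cases h' : i ∈ T' <;> fin_cases s <;> simp [rt_apply, h, h']

theorem sw_rt (i j : κ) : sw F i j * rt F {i} = rt F {j} * sw F i j := by
  ext1 x
  funext ⟨l, s⟩
  rw [mul_app, mul_app]
  by_cases h : l = j
  · subst h
    fin_cases s <;> simp [rt_apply, sw_apply]
  · have h1 : Equiv.swap i j l ≠ i := fun h2 => h (by
      rw [← Equiv.swap_apply_self i j l, h2, Equiv.swap_apply_left])
    fin_cases s <;> simp [rt_apply, sw_apply, h, h1]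

theorem sw_rt' {i j l : κ} (hi : l ≠ i) (hj : l ≠ j) : sw F i j * rt F {l} = rt F {l} * sw F i j := by
  ext1 x
  funext ⟨k, s⟩
  rw [mul_app, mul_app]
  by_cases h : k = l
  · subst h
    fin_cases s <;> simp [rt_apply, sw_apply, Equiv.swap_apply_of_ne_of_ne hi hj]
  · have h1 : Equiv.swap i j k ≠ l := fun h2 => h (by
      rw [← Equiv.swap_apply_self i j k, h2, Equiv.swap_apply_of_ne_of_ne hi hj])
    fin_cases s <;> simp [rt_apply, sw_apply, h, h1]

theorem sw_rt_univ (i j : κ) : sw F i j * rt F Finset.univ = rt F Finset.univ * sw F i j := by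
  ext1 x
  funext ⟨k, s⟩
  rw [mul_app, mul_app]
  fin_cases s <;> simp [rt_apply, sw_apply]

/-- the twisted swap -/
def tw (F : Type*) [Field F] (i j : κ) : (κ × Fin 2 → F) ≃ₗ[F] (κ × Fin 2 → F) := sw F i j * fl F {i, j}

theorem tw_apply (i j : κ) (x : κ × Fin 2 → F) (l : κ) (s : Fin 2) :
    tw F i j x (l, s) = if l = i ∨ l = j then x (Equiv.swap i j l, Equiv.swap 0 1 s) else x (l, s) := by
  rw [tw, mul_app, sw_apply, fl_apply]
  by_cases hi : l = i
  · subst hi; simp
  · by_cases hj : l = j
    · subst hj; simp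
    · simp [hi, hj, Equiv.swap_apply_of_ne_of_ne hi hj]

theorem tw_rt {i j : κ} (hij : i ≠ j) : rt F {j} * (tw F i j * rt F {i}) = tw F i j := by
  ext1 x
  funext ⟨l, s⟩
  rw [mul_app, mul_app]
  by_cases hi : l = i
  · subst hi
    fin_cases s <;> simp [rt_apply, tw_apply, hij, hij.symm]
  · by_cases hj : l = j
    · subst hj
      fin_cases s <;> simp [rt_apply, tw_apply]
    · fin_cases s <;> simp [rt_apply, tw_apply, hi, hj]

theorem tw_rt' {i j l : κ} (hi : l ≠ i) (hj : l ≠ j) : tw F i j * rt F {l} = rt F {l} * tw F i j := by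
  ext1 x
  funext ⟨k, s⟩
  rw [mul_app, mul_app]
  by_cases h : k = l
  · subst h
    fin_cases s <;> simp [rt_apply, tw_apply, hi, hj]
  · by_cases hki : k = i
    · subst hki
      fin_cases s <;> simp [rt_apply, tw_apply, hi.symm, hj.symm]
    · by_cases hkj : k = j
      · subst hkj
        fin_cases s <;> simp [rt_apply, tw_apply, hi.symm, hj.symm]
      · fin_cases s <;> simp [rt_apply, tw_apply, hki, hkj, h]

theorem rt_mul_rt {i j : κ} (hij : i ≠ j) : rt F {i} * rt F {j} = rt F {i, j} := by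
  ext1 x
  funext ⟨l, s⟩
  rw [mul_app]
  by_cases hi : l = i
  · subst hi
    fin_cases s <;> simp [rt_apply, hij]
  · by_cases hj : l = j
    · subst hj
      fin_cases s <;> simp [rt_apply, hi]
    · fin_cases s <;> simp [rt_apply, hi, hj]

theorem rt_mul_compl (T : Finset κ) : rt F T * rt F Tᶜ = rt F Finset.univ := by
  ext1 x
  funext ⟨l, s⟩
  rw [mul_app]
  by_cases h : l ∈ T <;> fin_cases s <;> simp [rt_apply, h]

theorem tw_rt_compl (i j : κ) : tw F i j * rt F ({i, j} : Finset κ)ᶜ = rt F ({i, j} : Finset κ)ᶜ * tw F i j := by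
  ext1 x
  funext ⟨k, s⟩
  rw [mul_app, mul_app]
  by_cases hki : k = i
  · subst hki
    fin_cases s <;> simp [rt_apply, tw_apply]
  · by_cases hkj : k = j
    · subst hkj
      fin_cases s <;> simp [rt_apply, tw_apply]
    · fin_cases s <;> simp [rt_apply, tw_apply, hki, hkj]

theorem sw_eq (i j : κ) : sw F i j = hs F 0 i j * hs F 1 i j := by
  ext1 x
  funext ⟨l, s⟩
  rw [mul_app]
  fin_cases s <;> simp [sw_apply, hs_apply]

theorem fl_hs (i j : κ) : fl F Finset.univ * hs F 0 i j = hs F 1 i j * fl F Finset.univ := by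
  ext1 x
  funext ⟨l, s⟩
  rw [mul_app, mul_app]
  fin_cases s <;> simp [fl_apply, hs_apply]

theorem fl_mul_fl {i j : κ} (hij : i ≠ j) : fl F {i, j} = fl F {i} * fl F {j} := by
  ext1 x
  funext ⟨l, s⟩
  rw [mul_app]
  by_cases hi : l = i
  · subst hi
    fin_cases s <;> simp [fl_apply, hij]
  · by_cases hj : l = j
    · subst hj
      fin_cases s <;> simp [fl_apply, hi]
    · fin_cases s <;> simp [fl_apply, hi, hj]

theorem sw_fl (i j : κ) : sw F i j * fl F {i} = fl F {j} * sw F i j := by
  ext1 x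
  funext ⟨l, s⟩
  rw [mul_app, mul_app]
  by_cases h : l = j
  · subst h
    fin_cases s <;> simp [fl_apply, sw_apply]
  · have h1 : Equiv.swap i j l ≠ i := fun h2 => h (by
      rw [← Equiv.swap_apply_self i j l, h2, Equiv.swap_apply_left])
    fin_cases s <;> simp [fl_apply, sw_apply, h, h1]

end model

end Cfsg.Agent.H767.EMA
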