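import Mathlib
import Cfsg.Agent.H767.EM.Model
import Cfsg.Agent.H104.UnfOrth
import Cfsg.Agent.H803.Unf.Skew

/-!
# S2243, orthogonal groups, q odd (helper767)
-/

set_option autoImplicit false
set_option linter.unusedSectionVars false

namespace Cfsg.Agent.H767.EMA

open QuadraticMap Module
open Cfsg.Agent.LieClassical.OrthCore Cfsg.Agent.H160.QSpin Cfsg.Agent.H160.QDisc Cfsg.Agent.H160.QSplit
  Cfsg.Agent.H160.QFinal Cfsg.Agent.H104.UnfDiag

section el

variable {F : Type*} [Field F] {V : Type*} [AddCommGroup V] [Module F V]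
  [FiniteDimensional F V] [Finite V]

/-- the product of two conjugate isometries -/
theorem el_mul_of_conj {Q : QuadraticForm F V} (hQ : Nondeg Q) {x y g : V ≃ₗ[F] V} (hx : x ∈ O Q) (hy : y ∈ O Q)
    (hg : g ∈ O Q) (h : g * x = y * g) : El Q 1 (x * y) := by
  have h1 : (⟨g, hg⟩ : O Q) * ⟨x, hx⟩ = ⟨y, hy⟩ * ⟨g, hg⟩ := Subtype.ext h
  refine ⟨(O Q).mul_mem hx hy, ?_, ?_⟩
  · have h2 := congrArg LinearEquiv.det h
    rw [map_mul, map_mul, mul_comm, mul_left_inj] at h2
    rw [map_mul, ← h2, ← pow_two, det_sq hQ hx]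
  · have h2 := congrArg (spin Q) h1
    rw [map_mul, map_mul, mul_comm, mul_left_inj] at h2
    have h3 : spin Q ⟨x * y, (O Q).mul_mem hx hy⟩ = spin Q ⟨x, hx⟩ * spin Q ⟨y, hy⟩ :=
      map_mul (spin Q) ⟨x, hx⟩ ⟨y, hy⟩
    rw [h3, h2, Int.units_mul_self]

end el

section turns

variable {F : Type*} [Field F] [Finite F] {ι : Type} [Fintype ι] [DecidableEq ι] {κ : Type} [Fintype κ] [DecidableEq κ]

theorem mem_range_lin (h2 : (2 : F) ≠ 0) {Q : QuadraticForm F (ι → F)} (hQ : Nondeg Q) (hd : 5 ≤ Fintype.card ι)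
    {x : (ι → F) ≃ₗ[F] (ι → F)} : x ∈ (lin Q).range ↔ El Q 1 x := by
  constructor
  · rintro ⟨a, rfl⟩
    exact el_lin h2 hQ hd a
  · intro h
    obtain ⟨a, ha⟩ := exists_lin h2 hQ hd h
    exact ⟨a, ha⟩

theorem turns (h2 : (2 : F) ≠ 0) {Q : QuadraticForm F (ι → F)} (hQ : Nondeg Q) (hd : 5 ≤ Fintype.card ι)
    (Φ : ((κ × Fin 2 → F) ≃ₗ[F] (κ × Fin 2 → F)) →* ((ι → F) ≃ₗ[F] (ι → F)))
    (hΦ : ∀ g ∈ O (WW F κ), Φ g ∈ O Q) :
    Turns (lin Q).range (fun i => Φ (rt F {i})) (fun i j => Φ (sw F i j)) (fun i j => Φ (tw F i j)) := by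
  have key : ∀ x y g : (κ × Fin 2 → F) ≃ₗ[F] (κ × Fin 2 → F), x ∈ O (WW F κ) → y ∈ O (WW F κ) →
      g ∈ O (WW F κ) → g * x = y * g → Φ (x * y) ∈ (lin Q).range := by
    intro x y g hx hy hg h
    rw [mem_range_lin h2 hQ hd, map_mul]
    exact el_mul_of_conj hQ (hΦ x hx) (hΦ y hy) (hΦ g hg) (by rw [← map_mul, h, map_mul])
  have hsw : ∀ i j, Φ (sw F i j) ∈ (lin Q).range := fun i j => by
    rw [sw_eq]
    exact key _ _ _ (hs_mem 0 i j) (hs_mem 1 i j) (fl_mem Finset.univ) (fl_hs i j)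
  refine ⟨?_, ?_, fun i j _ => hsw i j, ?_, ?_, ?_, ?_, ?_⟩
  · intro i j
    rw [← map_mul, rt_comm, map_mul]
  · intro i j _
    rw [← map_mul]
    exact key _ _ _ (rt_mem _) (rt_mem _) (sw_mem i j) (sw_rt i j)
  · intro i j hij
    rw [tw, map_mul]
    refine mul_mem (hsw i j) ?_
    rw [fl_mul_fl hij]
    exact key _ _ _ (fl_mem _) (fl_mem _) (sw_mem i j) (sw_fl i j)
  · intro i j _
    rw [← map_mul, sw_rt, map_mul]
  · intro i j l _ hi hj
    rw [← map_mul, sw_rt' hi hj, map_mul]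
  · intro i j hij
    rw [eq_inv_mul_iff_mul_eq, ← map_mul, ← map_mul, tw_rt hij]
  · intro i j l _ hi hj
    rw [← map_mul, tw_rt' hi hj, map_mul]

end turns

section conj

variable {F : Type*} [Field F] [Fintype F] [DecidableEq F] {V : Type*} [AddCommGroup V] [Module F V]
  [FiniteDimensional F V] [Finite V]

/-- the `-1`-eigenspace -/
noncomputable def ng (A : V ≃ₗ[F] V) : Submodule F V := LinearMap.ker ((A : V →ₗ[F] V) + 1)

omit [Fintype F] [DecidableEq F] [FiniteDimensional F V] [Finite V] in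
theorem mem_ng {A : V ≃ₗ[F] V} {x : V} : x ∈ ng A ↔ A x = -x := by
  rw [ng, LinearMap.mem_ker]
  show A x + x = 0 ↔ _
  rw [add_eq_zero_iff_eq_neg]

/-- **Involutions of `Ω` with `-1`-eigenspaces of the same dimension are conjugate in `Ω`.** -/
theorem conj_of_dim (h2 : (2 : F) ≠ 0) {Q : QuadraticForm F V} (hQ : Nondeg Q) {A B : V ≃ₗ[F] V} (hA : El Q 1 A)
    (hB : El Q 1 B) (hA2 : A * A = 1) (hB2 : B * B = 1) (hd : finrank F (ng A) = finrank F (ng B)) :
    ∃ h : V ≃ₗ[F] V, El Q 1 h ∧ h * A = B * h := by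
  have hA2' : ∀ x, A (A x) = x := fun x => LinearEquiv.congr_fun hA2 x
  have hB2' : ∀ x, B (B x) = x := fun x => LinearEquiv.congr_fun hB2 x
  -- the extreme cases
  have hbot : ∀ C : V ≃ₗ[F] V, (∀ x, C (C x) = x) → finrank F (ng C) = 0 → C = 1 := by
    intro C hC h0
    have h1 : ng C = ⊥ := Submodule.finrank_eq_zero.1 h0
    ext x
    have h3 : C x - x ∈ ng C := by rw [mem_ng, map_sub, hC, neg_sub]
    rw [h1, Submodule.mem_bot, sub_eq_zero] at h3
    exact h3
  have hbot' : ∀ C : V ≃ₗ[F] V, C = 1 → finrank F (ng C) = 0 := by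
    rintro C rfl
    rw [Submodule.finrank_eq_zero, eq_bot_iff]
    intro x hx
    have h3 : x = -x := mem_ng.1 hx
    have h4 : (2 : F) • x = 0 := by
      rw [two_smul]
      nth_rewrite 1 [h3]
      exact neg_add_cancel x
    exact (Submodule.mem_bot F).2 ((smul_eq_zero.1 h4).resolve_left h2)
  have htop : ∀ C : V ≃ₗ[F] V, finrank F (ng C) = finrank F V ↔ C = LinearEquiv.neg F := by
    intro C
    constructor
    · intro h
      have h1 := Submodule.eq_top_of_finrank_eq h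
      ext x
      exact mem_ng.1 (by rw [h1]; trivial)
    · rintro rfl
      have h1 : ng (LinearEquiv.neg F : V ≃ₗ[F] V) = ⊤ := by
        rw [Submodule.eq_top_iff']
        intro x
        exact mem_ng.2 rfl
      rw [h1, finrank_top]
  by_cases h1 : A = 1
  · have h3 := hbot B hB2' (by rw [← hd]; exact hbot' A h1)
    exact ⟨1, El.one Q, by rw [h1, h3]⟩
  have h1B : B ≠ 1 := fun h => h1 (hbot A hA2' (by rw [hd]; exact hbot' B h))
  by_cases hm : A = LinearEquiv.neg F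
  · have h3 := (htop B).1 (by rw [← hd]; exact (htop A).2 hm)
    exact ⟨1, El.one Q, by rw [hm, h3, one_mul, mul_one]⟩
  have hmB : B ≠ LinearEquiv.neg F := fun h => hm ((htop A).1 (by rw [hd]; exact (htop B).2 h))
  obtain ⟨W₁, W₂, e, he, hev, hW₁, hW₂, hQ₁, hQ₂, ⟨k, hk⟩, -, hdc⟩ := exists_split h2 hQ hA hA2 h1 hm
  obtain ⟨U₁, U₂, f, hf, hfv, hU₁, hU₂, hR₁, hR₂, ⟨k', hk'⟩, -, hdc'⟩ := exists_split h2 hQ hB hB2 h1B hmB
  have e1 : W₁ = ng A := by ext x; rw [hW₁, mem_ng]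
  have e2 : U₁ = ng B := by ext x; rw [hU₁, mem_ng]
  have hd1 : finrank F W₁ = finrank F U₁ := by rw [e1, e2, hd]
  have hd2 : finrank F W₂ = finrank F U₂ := by
    have h3 := e.finrank_eq
    have h4 := f.finrank_eq
    rw [finrank_prod] at h3 h4
    omega
  have hc2 : dc (Q.comp W₂.subtype) = dc (Q.comp U₂.subtype) := by
    have h3 := dc_iso he
    have h4 := dc_iso hf
    rw [dc_prod, hdc, one_mul] at h3
    rw [dc_prod, hdc', one_mul] at h4
    rw [← h3, ← h4]
  obtain ⟨g₁, hg₁⟩ := exists_iso h2 hQ₁ hR₁ hd1 (by rw [hdc, hdc'])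
  obtain ⟨g₂, hg₂⟩ := exists_iso h2 hQ₂ hR₂ hd2 hc2
  obtain ⟨g, hg⟩ : ∃ g : V ≃ₗ[F] V, ∀ x y, g (e (x, y)) = f (g₁ x, g₂ y) := by
    refine ⟨(e.symm.trans (g₁.prodCongr g₂)).trans f, fun x y => ?_⟩
    simp only [LinearEquiv.trans_apply, LinearEquiv.symm_apply_apply, LinearEquiv.prodCongr_apply]
  have hgO : g ∈ O Q := by
    intro v
    obtain ⟨⟨x, y⟩, rfl⟩ := e.surjective v
    rw [hg, hf, he, Qpr_apply, Qpr_apply, hg₁, hg₂]
  have hgA : g * A = B * g := by
    ext1 v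
    obtain ⟨⟨x, y⟩, rfl⟩ := e.surjective v
    have h3 : A (e (x, y)) = e (-x, y) := by
      rw [hev, hev, map_add, (hW₁ _).1 x.2, (hW₂ _).1 y.2]; rfl
    have h4 : ∀ (x : U₁) (y : U₂), B (f (x, y)) = f (-x, y) := by
      intro x y
      rw [hfv, hfv, map_add, (hU₁ _).1 x.2, (hU₂ _).1 y.2]; rfl
    rw [mul_app, mul_app, h3, hg, hg, h4, map_neg]
  obtain ⟨s, -, hs1, hs2⟩ := adjust h2 hQ hA.1 hW₁ hQ₁ (by omega) hgO
  exact ⟨g * s, hs2, by rw [mul_assoc, hs1, ← mul_assoc, hgA, mul_assoc]⟩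

end conj

section dim

variable {F : Type*} [Field F] {V : Type*} [AddCommGroup V] [Module F V]
  [FiniteDimensional F V] {κ : Type} [Fintype κ] [DecidableEq κ] {U : Type*} [AddCommGroup U] [Module F U]

/-- the homomorphism given by a decomposition -/
noncomputable def phi (E : ((κ × Fin 2 → F) × U) ≃ₗ[F] V) :
    ((κ × Fin 2 → F) ≃ₗ[F] (κ × Fin 2 → F)) →* (V ≃ₗ[F] V) :=
  (cjEquiv E).toMonoidHom.comp (prHom.comp (MonoidHom.prod (MonoidHom.id _) 1))

omit [FiniteDimensional F V] in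
theorem phi_apply (E : ((κ × Fin 2 → F) × U) ≃ₗ[F] V) (g : (κ × Fin 2 → F) ≃ₗ[F] (κ × Fin 2 → F))
    (x : κ × Fin 2 → F) (u : U) : phi E g (E (x, u)) = E (g x, u) := by
  show cj E (pr g 1) (E (x, u)) = _
  rw [cj_apply', pr_apply]
  rfl

omit [FiniteDimensional F V] [DecidableEq κ] in
theorem phi_mem {Q : QuadraticForm F V} {R : QuadraticForm F U} {E : ((κ × Fin 2 → F) × U) ≃ₗ[F] V}
    (hE : IsIso ((WW F κ).prod R) Q E) {g : (κ × Fin 2 → F) ≃ₗ[F] (κ × Fin 2 → F)} (hg : g ∈ O (WW F κ)) :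
    phi E g ∈ O Q :=
  cj_mem_O hE (pr_mem_O hg (O R).one_mem)

omit [FiniteDimensional F V] in
/-- the dimension of the `-1`-eigenspace of the half turn -/
theorem finrank_ng (h2 : (2 : F) ≠ 0) (E : ((κ × Fin 2 → F) × U) ≃ₗ[F] V) (T : Finset κ) :
    finrank F (ng (phi E (rt F T * rt F T))) = 2 * T.card := by
  obtain ⟨f, hf⟩ : ∃ f : (T × Fin 2 → F) →ₗ[F] V,
      ∀ y, f y = E ((fun p => if h : p.1 ∈ T then y (⟨p.1, h⟩, p.2) else 0), 0) := by
    refine ⟨{ toFun := fun y => E ((fun p => if h : p.1 ∈ T then y (⟨p.1, h⟩, p.2) else 0), 0), map_add' := ?_,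
              map_smul' := ?_ }, fun y => rfl⟩
    · intro y z
      rw [← map_add]
      congr 1
      refine Prod.ext ?_ (add_zero _).symm
      funext p
      simp only [Prod.fst_add, Pi.add_apply]
      split_ifs
      · rfl
      · rw [add_zero]
    · intro a y
      rw [← map_smul]
      congr 1
      refine Prod.ext ?_ (smul_zero _).symm
      funext p
      simp only [Prod.smul_fst, Pi.smul_apply, smul_eq_mul, RingHom.id_apply]
      split_ifs
      · rfl
      · rw [mul_zero]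
  have hinj : Function.Injective f := by
    intro y z h
    rw [hf, hf] at h
    have h1 := congrArg Prod.fst (E.injective h)
    funext ⟨⟨i, hi⟩, s⟩
    have h3 := congrFun h1 (i, s)
    simp only [hi, dif_pos] at h3
    exact h3
  have hsq : ∀ x : κ × Fin 2 → F, ∀ p, (rt F T * rt F T) x p = if p.1 ∈ T then - x p else x p := by
    rintro x ⟨i, s⟩
    rw [mul_app]
    by_cases h : i ∈ T <;> fin_cases s <;> simp [rt_apply, h]
  have hr : LinearMap.range f = ng (phi E (rt F T * rt F T)) := by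
    ext v
    rw [LinearMap.mem_range, mem_ng]
    constructor
    · rintro ⟨y, rfl⟩
      rw [hf, phi_apply, ← map_neg]
      congr 1
      refine Prod.ext ?_ neg_zero.symm
      funext p
      change (rt F T * rt F T) _ p = - (if h : p.1 ∈ T then y (⟨p.1, h⟩, p.2) else 0)
      rw [hsq]
      by_cases h : p.1 ∈ T
      · rw [if_pos h]
      · rw [if_neg h, dif_neg h, neg_zero]
    · intro h
      obtain ⟨⟨x, u⟩, rfl⟩ := E.surjective v
      rw [phi_apply, ← map_neg] at h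
      have h1 := E.injective h
      have hu : u = 0 := by
        have h3 : u = -u := congrArg Prod.snd h1
        have h4 : (2 : F) • u = 0 := by
          rw [two_smul]
          nth_rewrite 1 [h3]
          exact neg_add_cancel u
        exact (smul_eq_zero.1 h4).resolve_left h2
      refine ⟨fun p => x (p.1.1, p.2), ?_⟩
      rw [hf, hu]
      congr 1
      refine Prod.ext ?_ rfl
      funext p
      by_cases hp : p.1 ∈ T
      · simp only [hp, dif_pos]
      · simp only [hp, dif_neg, not_false_eq_true]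
        have h3 : (rt F T * rt F T) x p = - x p := congrFun (congrArg Prod.fst h1) p
        rw [hsq, if_neg hp] at h3
        have h6 : (2 : F) * x p = 0 := by linear_combination h3
        exact ((mul_eq_zero.1 h6).resolve_left h2).symm
  rw [← hr, LinearMap.finrank_range_of_inj hinj, finrank_fintype_fun_eq_card, Fintype.card_prod, Fintype.card_coe,
    Fintype.card_fin, mul_comm]

end dim

end Cfsg.Agent.H767.EMA
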