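import Mathlib
import Cfsg.Agent.H767.EM.Orth

/-!
# S2243, orthogonal groups, q odd: elements of `Ω` with square `-1` (helper767)
-/

set_option autoImplicit false
set_option linter.unusedSectionVars false

namespace Cfsg.Agent.H767.EMA

open QuadraticMap Module
open Cfsg.Agent.LieClassical.OrthCore Cfsg.Agent.H160.QSpin Cfsg.Agent.H160.QDisc Cfsg.Agent.H160.QSplit
  Cfsg.Agent.H160.QFinal Cfsg.Agent.H104.UnfDiag Cfsg.Agent.H803.UnfO

section plane

variable {F : Type*} [Field F] {V : Type*} [AddCommGroup V] [Module F V]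

theorem Q_comb {Q : QuadraticForm F V} {b c : V} (hb : Q b = 1) (hc : Q c = 1) (hbc : polar Q b c = 0) (p q : F) :
    Q (p • b + q • c) = p * p + q * q := by
  have h : Q (p • b + q • c) = Q (p • b) + Q (q • c) + polar Q (p • b) (q • c) := by rw [polar]; ring
  rw [h, polar_smul_left, polar_smul_right, hbc, QuadraticMap.map_smul, QuadraticMap.map_smul, hb, hc]
  simp

theorem refl_refl_plane {Q : QuadraticForm F V} {b c : V} (hb : Q b = 1) (hc : Q c = 1) (hbc : polar Q b c = 0)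
    {p q : F} (h : p * p + q * q ≠ 0) (hu : Q (p • b + q • c) ≠ 0) (hu' : Q (-q • b + p • c) ≠ 0) (x : V) :
    refl Q (-q • b + p • c) hu' (refl Q (p • b + q • c) hu x) = x - polar Q b x • b - polar Q c x • c := by
  have hcb : polar Q c b = 0 := by rw [polar_comm, hbc]
  have hbb : polar Q b b = 2 := by rw [QuadraticMap.polar_self, hb]; simp
  have hcc : polar Q c c = 2 := by rw [QuadraticMap.polar_self, hc]; simp
  obtain ⟨m, hm⟩ : ∃ m, (p * p + q * q)⁻¹ = m := ⟨_, rfl⟩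
  have hm1 : m * (p * p + q * q) = 1 := by rw [← hm, inv_mul_cancel₀ h]
  rw [refl_apply, refl_apply, Q_comb hb hc hbc, Q_comb hb hc hbc, show -q * -q + p * p = p * p + q * q by ring, hm]
  simp only [polar_add_left, polar_smul_left, polar_sub_right, polar_smul_right, polar_add_right, hbc, hcb, hbb, hcc,
    smul_eq_mul]
  match_scalars
  · ring
  · linear_combination (-polar Q b x) * hm1
  · linear_combination (-polar Q c x) * hm1

end plane

section skew

variable {F : Type*} [Field F] [Fintype F] [DecidableEq F] {V : Type*} [AddCommGroup V] [Module F V]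
  [FiniteDimensional F V] [Finite V]

omit [Fintype F] [DecidableEq F] [FiniteDimensional F V] [Finite V] in
theorem t_sq (h2 : (2 : F) ≠ 0) {Q : QuadraticForm F V} {A₀ t : V ≃ₗ[F] V} (hA₀ : A₀ ∈ O Q)
    (hA02 : ∀ v, A₀ (A₀ v) = -v) {b : V} (hb : Q b = 1)
    (ht : ∀ x, t x = x - polar Q b x • b - polar Q (A₀ b) x • A₀ b) : t * t = 1 := by
  have hS : Skew Q (A₀ : V →ₗ[F] V) := ⟨fun v => mem_O.1 hA₀ v, hA02⟩
  have hc : Q (A₀ b) = 1 := by rw [mem_O.1 hA₀, hb]
  have hbc : polar Q b (A₀ b) = 0 := hS.polar_self h2 b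
  have hcb : polar Q (A₀ b) b = 0 := by rw [polar_comm, hbc]
  have hbb : polar Q b b = 2 := by rw [QuadraticMap.polar_self, hb]; simp
  have hcc : polar Q (A₀ b) (A₀ b) = 2 := by rw [QuadraticMap.polar_self, hc]; simp
  ext1 x
  rw [mul_app, ht, ht]
  simp only [polar_sub_right, polar_smul_right, hbc, hcb, hbb, hcc, smul_eq_mul]
  show _ = x
  match_scalars <;> ring

/-- reflections in the plane spanned by `b`, `A₀ b` -/
theorem exists_r (h2 : (2 : F) ≠ 0) {Q : QuadraticForm F V} {A₀ t : V ≃ₗ[F] V} (hA₀ : A₀ ∈ O Q)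
    (hA02 : ∀ v, A₀ (A₀ v) = -v) {b : V} (hb : Q b = 1)
    (ht : ∀ x, t x = x - polar Q b x • b - polar Q (A₀ b) x • A₀ b) (s : ℤˣ) :
    ∃ r : V ≃ₗ[F] V, ∃ hr : r ∈ O Q, LinearEquiv.det r = -1 ∧ spin Q ⟨r, hr⟩ = s ∧ r * A₀ = t * A₀ * r ∧
      t * r = r * t := by
  have hS : Skew Q (A₀ : V →ₗ[F] V) := ⟨fun v => mem_O.1 hA₀ v, hA02⟩
  have hc : Q (A₀ b) = 1 := by rw [mem_O.1 hA₀, hb]
  have hbc : polar Q b (A₀ b) = 0 := hS.polar_self h2 b
  have hcb : polar Q (A₀ b) b = 0 := by rw [polar_comm, hbc]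
  have hbb : polar Q b b = 2 := by rw [QuadraticMap.polar_self, hb]; simp
  have hcc : polar Q (A₀ b) (A₀ b) = 2 := by rw [QuadraticMap.polar_self, hc]; simp
  obtain ⟨n, hn, hχ⟩ := exists_qc (F := F) h2 (d := -(s : ℤ)) (by
    rcases Int.units_eq_one_or s with h | h
    · right; rw [h]; rfl
    · left; rw [h]; rfl)
  obtain ⟨p, q, hpq⟩ := exists_sq_add_sq h2 n
  have hu1 : Q (p • b + q • A₀ b) = n := by rw [Q_comb hb hc hbc, hpq]
  have hu : Q (p • b + q • A₀ b) ≠ 0 := by rw [hu1]; exact hn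
  have hAu : A₀ (p • b + q • A₀ b) = -q • b + p • A₀ b := by
    rw [map_add, map_smul, map_smul, hA02]
    module
  have hu' : Q (-q • b + p • A₀ b) ≠ 0 := by rw [← hAu, mem_O.1 hA₀]; exact hu
  have key : refl Q (-q • b + p • A₀ b) hu' * refl Q (p • b + q • A₀ b) hu = t := by
    ext1 x
    rw [mul_app, ht]
    exact refl_refl_plane hb hc hbc (by rw [hpq]; exact hn) hu hu' x
  have hconj : A₀ * refl Q (p • b + q • A₀ b) hu = refl Q (-q • b + p • A₀ b) hu' * A₀ := by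
    have h1 := refl_conj hA₀ hu (by rw [hAu]; exact hu')
    rw [mul_inv_eq_iff_eq_mul] at h1
    rw [h1]
    congr 1
    congr 1
  have htu : t (p • b + q • A₀ b) = -(p • b + q • A₀ b) := by
    rw [ht]
    simp only [polar_smul_right, polar_add_right, hbc, hcb, hbb, hcc, smul_eq_mul]
    match_scalars <;> ring
  have htO : t ∈ O Q := by
    rw [← key]
    exact (O Q).mul_mem (refl_mem_O _) (refl_mem_O _)
  refine ⟨refl Q (p • b + q • A₀ b) hu, refl_mem_O hu, det_refl hu, ?_, ?_, ?_⟩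
  · apply Units.ext
    rw [spin_refl_int h2, hu1, hχ, neg_neg]
  · rw [mul_assoc, hconj, ← mul_assoc, ← key, mul_assoc _ _ (refl Q (-q • b + p • A₀ b) hu')]
    have e1 : refl Q (p • b + q • A₀ b) hu * refl Q (-q • b + p • A₀ b) hu' =
        refl Q (-q • b + p • A₀ b) hu' * refl Q (p • b + q • A₀ b) hu := by
      refine LieClassical.OrthCore.refl_comm hu hu' ?_
      simp only [polar_add_left, polar_smul_left, polar_smul_right, polar_add_right, hbc, hcb, hbb, hcc, smul_eq_mul]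
      ring
    rw [e1, ← mul_assoc (refl Q (-q • b + p • A₀ b) hu'), refl_mul_self, one_mul]
  · exact (Cfsg.Agent.H104.UnfDiag.refl_comm htO hu htu).symm

/-- **Elements of `Ω` with square `-1`.** -/
theorem skew_conj (h2 : (2 : F) ≠ 0) {Q : QuadraticForm F V} (hQ : Nondeg Q) {A A₀ t : V ≃ₗ[F] V} (hA : A ∈ O Q)
    (hA2 : ∀ v, A (A v) = -v) (hA₀ : A₀ ∈ O Q) (hA02 : ∀ v, A₀ (A₀ v) = -v) {m : ℕ} (hm : finrank F V = 2 * m)
    {b : V} (hb : Q b = 1)
    (ht : ∀ x, t x = x - polar Q b x • b - polar Q (A₀ b) x • A₀ b) :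
    ∃ h : V ≃ₗ[F] V, El Q 1 h ∧ (h * A = A₀ * h ∨ h * A = t * A₀ * h) := by
  obtain ⟨e, he, heA⟩ := Skew.exists_basis h2 (nondeg_bilin hQ) (⟨fun v => mem_O.1 hA v, hA2⟩ : Skew Q (A : V →ₗ[F] V)) m hm
  obtain ⟨f, hf, hfA⟩ := Skew.exists_basis h2 (nondeg_bilin hQ)
    (⟨fun v => mem_O.1 hA₀ v, hA02⟩ : Skew Q (A₀ : V →ₗ[F] V)) m hm
  obtain ⟨g, hg⟩ : ∃ g : V ≃ₗ[F] V, ∀ x, g (e x) = f x := by
    refine ⟨e.symm.trans f, fun x => ?_⟩
    simp only [LinearEquiv.trans_apply, LinearEquiv.symm_apply_apply]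
  have hgO : g ∈ O Q := by
    intro v
    obtain ⟨x, rfl⟩ := e.surjective v
    rw [hg, he, hf]
  have hgA : g * A = A₀ * g := by
    ext1 v
    obtain ⟨x, rfl⟩ := e.surjective v
    have h1 : A (e x) = e (fun p => if p.2 = 0 then - x (p.1, 1) else x (p.1, 0)) := heA x
    have h3 : A₀ (f x) = f (fun p => if p.2 = 0 then - x (p.1, 1) else x (p.1, 0)) := hfA x
    rw [mul_app, mul_app, h1, hg, hg, h3]
  have hrm : ∀ s : ℤˣ, _ := fun s => exists_r h2 hA₀ hA02 hb ht s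
  have hmul : ∀ (x y : V ≃ₗ[F] V) (hx : x ∈ O Q) (hy : y ∈ O Q),
      spin Q ⟨x * y, (O Q).mul_mem hx hy⟩ = spin Q ⟨x, hx⟩ * spin Q ⟨y, hy⟩ := fun x y hx hy =>
    map_mul (spin Q) ⟨x, hx⟩ ⟨y, hy⟩
  have hdet : LinearEquiv.det g = 1 ∨ LinearEquiv.det g = -1 := by
    have h1 := congrArg Units.val (det_sq hQ hgO)
    rw [Units.val_pow_eq_pow_val, Units.val_one, pow_two] at h1
    rcases mul_self_eq_one_iff.1 h1 with h | h
    · left; exact Units.ext h
    · right; exact Units.ext h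
  rcases hdet with hd | hd
  · rcases Int.units_eq_one_or (spin Q ⟨g, hgO⟩) with hs | hs
    · exact ⟨g, ⟨hgO, hd, hs⟩, Or.inl hgA⟩
    · obtain ⟨r, hr, hrd, hrs, hr1, hr2⟩ := hrm 1
      obtain ⟨r', hr', hrd', hrs', hr1', hr2'⟩ := hrm (-1)
      refine ⟨r' * (r * g), ⟨(O Q).mul_mem hr' ((O Q).mul_mem hr hgO), ?_, ?_⟩, Or.inl ?_⟩
      · rw [map_mul, map_mul, hrd, hrd', hd]
        simp
      · rw [hmul r' (r * g) hr' ((O Q).mul_mem hr hgO), hmul r g hr hgO, hrs, hrs', hs]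
        rfl
      · calc r' * (r * g) * A = r' * (r * (g * A)) := by group
          _ = r' * ((r * A₀) * g) := by rw [hgA]; group
          _ = (r' * t) * (A₀ * (r * g)) := by rw [hr1]; group
          _ = t * (r' * A₀) * (r * g) := by rw [← hr2']; group
          _ = (t * t) * (A₀ * (r' * (r * g))) := by rw [hr1']; group
          _ = A₀ * (r' * (r * g)) := by rw [t_sq h2 hA₀ hA02 hb ht, one_mul]
  · obtain ⟨r, hr, hrd, hrs, hr1, hr2⟩ := hrm (spin Q ⟨g, hgO⟩)
    refine ⟨r * g, ⟨(O Q).mul_mem hr hgO, ?_, ?_⟩, Or.inr ?_⟩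
    · rw [map_mul, hrd, hd]
      simp
    · rw [hmul r g hr hgO, hrs, Int.units_mul_self]
    · rw [mul_assoc, hgA, ← mul_assoc, hr1, mul_assoc]

end skew

end Cfsg.Agent.H767.EMA
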