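import Mathlib
import Cfsg.Agent.H767.EM.SkewC
import Cfsg.Agent.H277.EM.Crow

/-!
# S2243, orthogonal groups, q odd (helper767)

* `crow_pomega` : `CRow (PΩ(Q))` for every nondegenerate quadratic form `Q` of dimension at least 7 over a finite
  field of odd order.
-/

set_option autoImplicit false
set_option linter.unusedSectionVars false

namespace Cfsg.Agent.H767.EMA

open QuadraticMap Module
open Cfsg.Agent.LieClassical.OrthCore Cfsg.Agent.H160.QSpin Cfsg.Agent.H160.QDisc Cfsg.Agent.H160.QSplit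
  Cfsg.Agent.H160.QFinal Cfsg.Agent.H104.UnfDiag Cfsg.Agent.H803.UnfO Cfsg.Agent.H277.MI

section forms

variable {F : Type*} [Field F] {κ : Type} [Fintype κ] [DecidableEq κ]

theorem polar_WW (x y : κ × Fin 2 → F) : polar (WW F κ) x y = ∑ p, 2 * (x p * y p) := by
  simp only [QuadraticMap.polar, WW_apply, Pi.add_apply]
  rw [← Finset.sum_sub_distrib, ← Finset.sum_sub_distrib]
  refine Finset.sum_congr rfl fun i _ => ?_
  ring

theorem polar_WW_single (p : κ × Fin 2) (x : κ × Fin 2 → F) : polar (WW F κ) (Pi.single p 1) x = 2 * x p := by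
  rw [polar_WW]
  simp only [Pi.single_apply, ite_mul, one_mul, zero_mul, mul_ite, mul_zero, Finset.sum_ite_eq', Finset.mem_univ,
    if_true]

theorem WW_single (p : κ × Fin 2) : WW F κ (Pi.single p 1) = 1 := by
  rw [WW_apply]
  simp only [Pi.single_apply, mul_ite, mul_one, mul_zero, Finset.sum_ite_eq', Finset.mem_univ, if_true]

theorem nondeg_WW (h2 : (2 : F) ≠ 0) : Nondeg (WW F κ) := by
  intro x hx
  funext p
  have h := hx (Pi.single p 1)
  rw [polar_comm, polar_WW_single] at h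
  exact (mul_eq_zero.1 h).resolve_left h2

theorem dc_WW [Fintype F] [DecidableEq F] (h2 : (2 : F) ≠ 0) : dc (WW F κ) = 1 := by
  rw [dc_eq (Pi.basisFun F (κ × Fin 2))]
  have h : LinearMap.BilinForm.toMatrix (Pi.basisFun F (κ × Fin 2)) (polarBilin (WW F κ)) =
      Matrix.diagonal (fun _ : κ × Fin 2 => 2) := by
    ext i j
    rw [LinearMap.BilinForm.toMatrix_apply, Pi.basisFun_apply, Pi.basisFun_apply]
    show polar (WW F κ) _ _ = _
    rw [polar_WW_single, Matrix.diagonal_apply, Pi.single_apply]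
    split_ifs <;> simp
  rw [h, Matrix.det_diagonal, Finset.prod_const, Finset.card_univ, Fintype.card_prod, Fintype.card_fin,
    quadraticChar_one_iff_isSquare (pow_ne_zero _ h2)]
  exact ⟨2 ^ Fintype.card κ, by rw [← pow_add]; congr 1; ring⟩

theorem rt_sq (T : Finset κ) (x : κ × Fin 2 → F) (p : κ × Fin 2) :
    (rt F T * rt F T) x p = if p.1 ∈ T then - x p else x p := by
  obtain ⟨i, s⟩ := p
  rw [mul_app]
  by_cases h : i ∈ T <;> fin_cases s <;> simp [rt_apply, h]

theorem rt_sq_insert {T : Finset κ} {i : κ} (hi : i ∉ T) :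
    rt F (insert i T) * rt F (insert i T) = (rt F {i} * rt F {i}) * (rt F T * rt F T) := by
  ext1 x
  funext p
  rw [rt_sq, mul_app, rt_sq, rt_sq]
  by_cases h : p.1 = i
  · simp [h, hi]
  · simp [h]

end forms

section gens

variable {F : Type} [Field F] [Finite F] {ι : Type} [Fintype ι] [DecidableEq ι] {κ : Type} [Fintype κ] [DecidableEq κ]
  {U : Type} [AddCommGroup U] [Module F U]

/-- the projection onto `PΩ` -/
abbrev mk (Q : QuadraticForm F (ι → F)) : Cfsg.Omega F ⇑Q →* Cfsg.POmega F ⇑Q :=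
  QuotientGroup.mk' (Subgroup.center (Cfsg.Omega F ⇑Q))

/-- the generators: half turns of the planes -/
def gens (Q : QuadraticForm F (ι → F)) (E : ((κ × Fin 2 → F) × U) ≃ₗ[F] (ι → F)) : Set (Cfsg.POmega F ⇑Q) :=
  {x | ∃ (i : κ) (a : Cfsg.Omega F ⇑Q), lin Q a = phi E (rt F {i} * rt F {i}) ∧ mk Q a = x}

theorem rt_sq_mem (h2 : (2 : F) ≠ 0) {Q : QuadraticForm F (ι → F)} (hQ : Nondeg Q) (hd : 5 ≤ Fintype.card ι)
    {R : QuadraticForm F U} {E : ((κ × Fin 2 → F) × U) ≃ₗ[F] (ι → F)} (hE : IsIso ((WW F κ).prod R) Q E)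
    (T : Finset κ) : ∃ a : Cfsg.Omega F ⇑Q, lin Q a = phi E (rt F T * rt F T) := by
  apply exists_lin h2 hQ hd
  rw [map_mul]
  exact el_mul_of_conj hQ (phi_mem hE (rt_mem T)) (phi_mem hE (rt_mem T)) (O Q).one_mem (by rw [one_mul, mul_one])

theorem mem_closure_gens (h2 : (2 : F) ≠ 0) {Q : QuadraticForm F (ι → F)} (hQ : Nondeg Q) (hd : 5 ≤ Fintype.card ι)
    {R : QuadraticForm F U} {E : ((κ × Fin 2 → F) × U) ≃ₗ[F] (ι → F)} (hE : IsIso ((WW F κ).prod R) Q E)
    (T : Finset κ) : ∀ b : Cfsg.Omega F ⇑Q, lin Q b = phi E (rt F T * rt F T) →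
      mk Q b ∈ Subgroup.closure (gens Q E) := by
  induction T using Finset.induction_on with
  | empty =>
    intro b hb
    have h1 : rt F (∅ : Finset κ) * rt F ∅ = 1 := by
      ext1 x
      funext p
      rw [rt_sq]
      simp
    rw [h1, map_one] at hb
    have h3 : b = 1 := lin_injective Q (by rw [hb, map_one])
    rw [h3, map_one]
    exact one_mem _
  | insert i T hi ih =>
    intro b hb
    obtain ⟨a, ha⟩ := rt_sq_mem h2 hQ hd hE ({i} : Finset κ)
    have h1 := ih (a⁻¹ * b) (by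
      rw [map_mul, map_inv, ha, hb, rt_sq_insert hi, (phi E).map_mul (rt F {i} * rt F {i}), inv_mul_cancel_left])
    have h3 : mk Q a ∈ Subgroup.closure (gens Q E) := Subgroup.subset_closure ⟨i, a, ha, rfl⟩
    have h4 := mul_mem h3 h1
    rwa [← map_mul, mul_inv_cancel_left] at h4

theorem lc_gens (h2 : (2 : F) ≠ 0) {Q : QuadraticForm F (ι → F)} (hQ : Nondeg Q) (hd : 5 ≤ Fintype.card ι)
    {R : QuadraticForm F U} {E : ((κ × Fin 2 → F) × U) ≃ₗ[F] (ι → F)} (hE : IsIso ((WW F κ).prod R) Q E)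
    (hκ : 3 ≤ Fintype.card κ) {L : Type} [Group L] {π : L →* Cfsg.POmega F ⇑Q} (hs : Function.Surjective π)
    (hc : π.ker ≤ Subgroup.center L) : ∀ a ∈ gens Q E, ∀ b ∈ gens Q E, LC π a b := by
  rintro _ ⟨i, a, ha, rfl⟩ _ ⟨j, b, hb, rfl⟩
  by_cases hij : i = j
  · subst hij
    obtain rfl : a = b := lin_injective Q (ha.trans hb.symm)
    exact LC.self hc _
  · obtain ⟨k, hk⟩ : ∃ k, k ∉ ({i, j} : Finset κ) := by
      by_contra! h
      have h1 : ({i, j} : Finset κ) = Finset.univ := Finset.eq_univ_iff_forall.2 h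
      have h3 := Finset.card_le_two (a := i) (b := j)
      rw [h1, Finset.card_univ] at h3
      omega
    rw [Finset.mem_insert, Finset.mem_singleton, not_or] at hk
    have hT := turns h2 hQ hd (phi E) (fun g hg => phi_mem hE hg)
    exact hT.lcv_sq (q := mk Q) hs hc (lin_injective Q) hij hk.1 hk.2 a b (by rw [ha, map_mul]) (by rw [hb, map_mul])

end gens

section inv

variable {F : Type} [Field F] [Finite F] {ι : Type} [Fintype ι] [DecidableEq ι]

/-- involutions of `PΩ` -/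
theorem lift_inv {Q : QuadraticForm F (ι → F)} (hQ : Nondeg Q) (hd : 5 ≤ Fintype.card ι)
    {x : Cfsg.POmega F ⇑Q} (hx : orderOf x = 2) :
    ∃ a : Cfsg.Omega F ⇑Q, mk Q a = x ∧ lin Q a ≠ 1 ∧ lin Q a ≠ LinearEquiv.neg F ∧
      (lin Q a * lin Q a = 1 ∨ ∀ v, lin Q a (lin Q a v) = -v) := by
  have hG := Cfsg.Agent.LieClassical.OrthFinite.good_of_finite hQ (by rwa [finrank_fintype_fun_eq_card])
  have hcen := Cfsg.Agent.LieClassical.OrthCenter.mem_center_omega_iff (nondeg_bilin hQ) (by omega) hG.sing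
  obtain ⟨a, rfl⟩ := QuotientGroup.mk'_surjective (Subgroup.center (Cfsg.Omega F ⇑Q)) x
  refine ⟨a, rfl, ?_, ?_, ?_⟩
  · intro h
    have : a = 1 := lin_injective Q (by rw [h, map_one])
    rw [this, map_one, orderOf_one] at hx
    exact absurd hx (by norm_num)
  · intro h4
    have h3 : a ∈ Subgroup.center (Cfsg.Omega F ⇑Q) := by
      rw [hcen]
      right
      have h5 : ∀ v, ((((a : Cfsg.isometryGroup F ⇑Q) : Matrix.GeneralLinearGroup ι F)) : Matrix ι ι F).mulVec v = -v :=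
        fun v => LinearEquiv.congr_fun h4 v
      ext i j
      have h6 := congrFun (h5 (Pi.single j 1)) i
      rw [Matrix.mulVec_single_one] at h6
      simp only [Matrix.col_apply, Pi.neg_apply, Pi.single_apply] at h6
      rw [h6, Matrix.neg_apply, Matrix.one_apply]
    have h5 : QuotientGroup.mk' (Subgroup.center (Cfsg.Omega F ⇑Q)) a = 1 := (QuotientGroup.eq_one_iff _).2 h3
    rw [h5, orderOf_one] at hx
    exact absurd hx (by norm_num)
  · have h1 : a * a ∈ Subgroup.center (Cfsg.Omega F ⇑Q) := by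
      rw [← QuotientGroup.eq_one_iff]
      have h3 : (QuotientGroup.mk' (Subgroup.center (Cfsg.Omega F ⇑Q)) a) ^ 2 = 1 := by
        rw [← hx, pow_orderOf_eq_one]
      rw [pow_two, ← map_mul] at h3
      exact h3
    rcases (hcen (a * a)).1 h1 with h3 | h3
    · left
      have h4 : a * a = 1 := Subtype.ext (Subtype.ext (Units.ext h3))
      rw [← map_mul, h4, map_one]
    · right
      intro v
      have h4 : lin Q (a * a) v = -v := by
        show ((((a * a : Cfsg.Omega F ⇑Q) : Cfsg.isometryGroup F ⇑Q) : Matrix.GeneralLinearGroup ι F) :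
          Matrix ι ι F).mulVec v = -v
        rw [h3, Matrix.neg_mulVec, Matrix.one_mulVec]
      rw [map_mul] at h4
      exact h4

/-- honest involutions are conjugate to half turns -/
theorem honest_conj (h2 : (2 : F) ≠ 0) {Q : QuadraticForm F (ι → F)} (hQ : Nondeg Q) (hd : 5 ≤ Fintype.card ι)
    {κ : Type} [Fintype κ] [DecidableEq κ] {U : Type} [AddCommGroup U] [Module F U]
    {R : QuadraticForm F U} {E : ((κ × Fin 2 → F) × U) ≃ₗ[F] (ι → F)} (hE : IsIso ((WW F κ).prod R) Q E)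
    (hκ : Fintype.card ι ≤ 2 * Fintype.card κ + 2) {a : Cfsg.Omega F ⇑Q} (h1 : lin Q a ≠ 1)
    (hm : lin Q a ≠ LinearEquiv.neg F) (ha : lin Q a * lin Q a = 1) :
    ∃ g : Cfsg.POmega F ⇑Q, g * mk Q a * g⁻¹ ∈ Subgroup.closure (gens Q E) := by
  classical
  let _ := Fintype.ofFinite F
  obtain ⟨W₁, W₂, e, he, hev, hW₁, hW₂, -, -, ⟨k, hk⟩, ⟨s, hs⟩, -⟩ := exists_split h2 hQ (el_lin h2 hQ hd a) ha h1 hm
  have e1 : W₁ = ng (lin Q a) := by ext x; rw [hW₁, mem_ng]
  have h3 := e.finrank_eq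
  rw [finrank_prod, hk, hs, finrank_fintype_fun_eq_card] at h3
  obtain ⟨T, -, hT⟩ := Finset.exists_subset_card_eq (s := (Finset.univ : Finset κ)) (n := k + 1) (by
    rw [Finset.card_univ]; omega)
  obtain ⟨b, hb⟩ := rt_sq_mem h2 hQ hd hE T
  obtain ⟨h, hel, hh⟩ := conj_of_dim h2 hQ (el_lin h2 hQ hd a) (el_lin h2 hQ hd b) ha (by
    rw [hb, ← map_mul]
    have h4 : (rt F T * rt F T) * (rt F T * rt F T) = 1 := by
      ext1 x
      funext p
      rw [mul_app, rt_sq, rt_sq]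
      split_ifs <;> simp
    rw [h4, map_one]) (by rw [← e1, hk, hb, finrank_ng h2, hT])
  obtain ⟨g, rfl⟩ := exists_lin h2 hQ hd hel
  refine ⟨mk Q g, ?_⟩
  have h5 : g * a = b * g := lin_injective Q (by rw [map_mul, map_mul, hh])
  rw [← map_mul, h5, map_mul, mul_inv_cancel_right]
  exact mem_closure_gens h2 hQ hd hE T b hb

theorem even_card (h2 : (2 : F) ≠ 0) {Q : QuadraticForm F (ι → F)} (hQ : Nondeg Q) (hd : 5 ≤ Fintype.card ι)
    {a : Cfsg.Omega F ⇑Q} (ha : ∀ v, lin Q a (lin Q a v) = -v) : Even (Fintype.card ι) := by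
  by_contra hodd
  rw [Nat.not_even_iff_odd] at hodd
  obtain ⟨-, hdet, -⟩ := el_lin h2 hQ hd (a * a)
  have h3 : (lin Q (a * a) : (ι → F) ≃ₗ[F] (ι → F)) = LinearEquiv.neg F := by
    ext v
    rw [map_mul]
    exact congrFun (ha v) _
  rw [h3] at hdet
  have h4 := congrArg Units.val hdet
  rw [LinearEquiv.coe_det] at h4
  have h : ((LinearEquiv.neg F : (ι → F) ≃ₗ[F] (ι → F)) : (ι → F) →ₗ[F] (ι → F)) = (-1 : F) • LinearMap.id := by
    ext x
    simp
  rw [h, LinearMap.det_smul, LinearMap.det_id, finrank_fintype_fun_eq_card, hodd.neg_one_pow] at h4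
  apply h2
  have : (2 : F) = 1 - (-1) := by norm_num
  rw [this]
  simp at h4
  rw [h4, sub_self]

theorem exists_E [Fintype F] [DecidableEq F] (h2 : (2 : F) ≠ 0) {Q : QuadraticForm F (ι → F)} (hQ : Nondeg Q) {r s : ℕ}
    (hN : Fintype.card ι = 2 * r + (s + 1)) :
    ∃ (R : QuadraticForm F (Fin (s + 1) → F)) (E : ((Fin r × Fin 2 → F) × (Fin (s + 1) → F)) ≃ₗ[F] (ι → F)),
      IsIso ((WW F (Fin r)).prod R) Q E := by
  obtain ⟨R, hR, hdR⟩ := exists_form h2 (dc_cases hQ) s
  obtain ⟨E, hE⟩ := exists_iso h2 (nondeg_prod (nondeg_WW (κ := Fin r) h2) hR) hQ (by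
    rw [finrank_prod, finrank_fintype_fun_eq_card, finrank_fintype_fun_eq_card, finrank_fintype_fun_eq_card,
      Fintype.card_prod, Fintype.card_fin, Fintype.card_fin, Fintype.card_fin, hN, mul_comm]) (by
    rw [dc_prod, dc_WW h2, one_mul, hdR])
  exact ⟨R, E, hE⟩

end inv

section main

variable {F : Type} [Field F] [Finite F] {ι : Type} [Fintype ι] [DecidableEq ι]

/-- the case with elements of square `-1` -/
theorem crow_skew (h2 : (2 : F) ≠ 0) {Q : QuadraticForm F (ι → F)} (hQ : Nondeg Q) (hd : 7 ≤ Fintype.card ι)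
    {a₀ : Cfsg.Omega F ⇑Q} (ha₀ : ∀ v, lin Q a₀ (lin Q a₀ v) = -v) : CRow (Cfsg.POmega F ⇑Q) := by
  classical
  let _ := Fintype.ofFinite F
  have hd5 : 5 ≤ Fintype.card ι := by omega
  obtain ⟨m, hm⟩ := even_card h2 hQ hd5 ha₀
  have hm' : finrank F (ι → F) = 2 * m := by rw [finrank_fintype_fun_eq_card]; omega
  obtain ⟨hO, -, -⟩ := el_lin h2 hQ hd5 a₀
  obtain ⟨e, he, heA⟩ := Skew.exists_basis h2 (nondeg_bilin hQ)
    (⟨fun v => mem_O.1 hO v, ha₀⟩ : Skew Q (lin Q a₀ : (ι → F) →ₗ[F] (ι → F))) m hm'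
  obtain ⟨E, hEe⟩ : ∃ E : ((Fin m × Fin 2 → F) × (Fin 0 → F)) ≃ₗ[F] (ι → F), ∀ x u, E (x, u) = e x :=
    ⟨LinearEquiv.prodUnique.trans e, fun x u => rfl⟩
  have hE : IsIso ((WW F (Fin m)).prod (0 : QuadraticForm F (Fin 0 → F))) Q E := by
    rintro ⟨x, u⟩
    rw [hEe, he, Qpr_apply, WW_apply, zero_apply, add_zero]
  have hA : lin Q a₀ = phi E (rt F Finset.univ) := by
    ext1 v
    obtain ⟨⟨x, u⟩, rfl⟩ := E.surjective v
    rw [phi_apply, hEe, hEe]
    have h1 : lin Q a₀ (e x) = e (fun p => if p.2 = 0 then - x (p.1, 1) else x (p.1, 0)) := heA x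
    rw [h1]
    congr 1
    funext p
    rw [rt_apply, if_pos (Finset.mem_univ _)]
  intro L _ _ π hπ _
  refine em_of_abelian hπ.surj hπ.cen (gens Q E ∪ {mk Q a₀}) ?_ ?_
  · have hfull : ∀ x ∈ gens Q E, LC π (mk Q a₀) x := by
      rintro _ ⟨i, b, hb, rfl⟩
      obtain ⟨j, hj⟩ : ∃ j, j ∉ ({i, i} : Finset (Fin m)) := by
        by_contra! h
        have h1 : ({i, i} : Finset (Fin m)) = Finset.univ := Finset.eq_univ_iff_forall.2 h
        have h3 := Finset.card_le_two (a := i) (b := i)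
        rw [h1, Finset.card_univ, Fintype.card_fin] at h3
        omega
      obtain ⟨k, hk⟩ : ∃ k, k ∉ ({i, j} : Finset (Fin m)) := by
        by_contra! h
        have h1 : ({i, j} : Finset (Fin m)) = Finset.univ := Finset.eq_univ_iff_forall.2 h
        have h3 := Finset.card_le_two (a := i) (b := j)
        rw [h1, Finset.card_univ, Fintype.card_fin] at h3
        omega
      rw [Finset.mem_insert, Finset.mem_singleton, not_or] at hk hj
      have hij : i ≠ j := fun h => hj.1 h.symm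
      have hT := turns h2 hQ hd5 (phi E) (fun g hg => phi_mem hE hg)
      refine hT.lcv_full (q := mk Q) hπ.surj hπ.cen (lin_injective Q) hij hk.1 hk.2 (JJ := lin Q a₀) ?_ ?_ ?_ a₀ b rfl
        (by rw [hb, map_mul])
      · intro l
        rw [hA, ← map_mul, rt_comm, map_mul]
      · rw [hA, ← map_mul, sw_rt_univ, map_mul]
      · have h3 : (phi E (rt F {i}) * phi E (rt F {j}))⁻¹ * lin Q a₀ = phi E (rt F ({i, j} : Finset (Fin m))ᶜ) := by
          rw [hA, ← map_mul, rt_mul_rt hij, inv_mul_eq_iff_eq_mul, ← map_mul, rt_mul_compl]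
        rw [h3, ← map_mul, ← map_mul, tw_rt_compl]
    rintro a (ha | ha) b (hb | hb)
    · exact lc_gens h2 hQ hd5 hE (by rw [Fintype.card_fin]; omega) hπ.surj hπ.cen a ha b hb
    · rw [Set.mem_singleton_iff.1 hb]
      exact (hfull a ha).symm
    · rw [Set.mem_singleton_iff.1 ha]
      exact hfull b hb
    · rw [Set.mem_singleton_iff.1 ha, Set.mem_singleton_iff.1 hb]
      exact LC.self hπ.cen _
  · intro t ht
    obtain ⟨a, rfl, h1, hm1, ha | ha⟩ := lift_inv hQ hd5 ht
    · obtain ⟨g, hg⟩ := honest_conj h2 hQ hd5 hE (by rw [Fintype.card_fin]; omega) h1 hm1 ha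
      exact ⟨g, Subgroup.closure_mono Set.subset_union_left hg⟩
    · have h0 : 0 < m := by omega
      obtain ⟨c, hc⟩ := rt_sq_mem h2 hQ hd5 hE ({⟨0, h0⟩} : Finset (Fin m))
      obtain ⟨hO', -, -⟩ := el_lin h2 hQ hd5 a
      have hb0 : Q (E (Pi.single (⟨0, h0⟩, 0) 1, 0)) = 1 := by
        rw [hE, Qpr_apply, WW_single, zero_apply, add_zero]
      have hAb : lin Q a₀ (E (Pi.single (⟨0, h0⟩, 0) 1, 0)) = E (Pi.single (⟨0, h0⟩, 1) 1, 0) := by
        rw [hA, phi_apply]
        congr 2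
        funext ⟨i, s⟩
        rw [rt_apply, if_pos (Finset.mem_univ _)]
        fin_cases s <;> simp [Pi.single_apply]
      obtain ⟨h, hel, hh⟩ := skew_conj h2 hQ hO' ha hO ha₀ hm' hb0 (t := phi E (rt F {⟨0, h0⟩} * rt F {⟨0, h0⟩})) (by
        intro x
        obtain ⟨⟨y, u⟩, rfl⟩ := E.surjective x
        rw [hAb, hE.polar, hE.polar, polar_pr, polar_pr, polar_WW_single, polar_WW_single, phi_apply]
        simp only [polar_zero_left, add_zero]
        rw [← map_smul, ← map_smul, ← map_sub, ← map_sub]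
        congr 1
        refine Prod.ext ?_ (Subsingleton.elim _ _)
        funext ⟨i, s⟩
        simp only [Prod.fst_sub, Prod.smul_fst, Pi.sub_apply, Pi.smul_apply, smul_eq_mul]
        rw [rt_sq]
        by_cases hi : i = ⟨0, h0⟩
        · subst hi
          fin_cases s
          · simp [Pi.single_apply]
            ring
          · simp [Pi.single_apply]
            ring
        · simp [Pi.single_apply, hi])
      obtain ⟨g, rfl⟩ := exists_lin h2 hQ hd5 hel
      refine ⟨mk Q g, ?_⟩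
      rcases hh with hh | hh
      · have h5 : g * a = a₀ * g := lin_injective Q (by rw [map_mul, map_mul, hh])
        rw [← map_mul, h5, map_mul, mul_inv_cancel_right]
        exact Subgroup.subset_closure (Or.inr rfl)
      · have h5 : g * a = c * a₀ * g := lin_injective Q (by rw [map_mul, map_mul, map_mul, hc, hh])
        rw [← map_mul, h5, map_mul, mul_inv_cancel_right, map_mul]
        exact mul_mem (Subgroup.subset_closure (Or.inl ⟨_, c, hc, rfl⟩)) (Subgroup.subset_closure (Or.inr rfl))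

/-- **The theorem.** -/
theorem crow_pomega (h2 : (2 : F) ≠ 0) {Q : QuadraticForm F (ι → F)} (hQ : Nondeg Q) (hd : 7 ≤ Fintype.card ι) :
    CRow (Cfsg.POmega F ⇑Q) := by
  classical
  let _ := Fintype.ofFinite F
  by_cases hsk : ∃ a₀ : Cfsg.Omega F ⇑Q, ∀ v, lin Q a₀ (lin Q a₀ v) = -v
  · obtain ⟨a₀, ha₀⟩ := hsk
    exact crow_skew h2 hQ hd ha₀
  have hd5 : 5 ≤ Fintype.card ι := by omega
  obtain ⟨r, s, hN, hs⟩ : ∃ r s, Fintype.card ι = 2 * r + (s + 1) ∧ s ≤ 1 :=
    ⟨(Fintype.card ι - 1) / 2, (Fintype.card ι - 1) % 2, by omega, by omega⟩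
  obtain ⟨R, E, hE⟩ := exists_E h2 hQ hN
  intro L _ _ π hπ _
  refine em_of_abelian hπ.surj hπ.cen (gens Q E) ?_ ?_
  · exact lc_gens h2 hQ hd5 hE (by rw [Fintype.card_fin]; omega) hπ.surj hπ.cen
  · intro t ht
    obtain ⟨a, rfl, h1, hm1, ha | ha⟩ := lift_inv hQ hd5 ht
    · exact honest_conj h2 hQ hd5 hE (by rw [Fintype.card_fin]; omega) h1 hm1 ha
    · exact absurd ⟨a, ha⟩ hsk

end main

end Cfsg.Agent.H767.EMA
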