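import Mathlib
import Cfsg.Agent.H767.EM.Final

/-!
# S2243, orthogonal groups, q odd: the rows (helper767)

* `crow_odd`, `crow_plus_odd`, `crow_minus_odd` (tasks 2600, 2601, 2602): `CRow` of `PΩ_{2m+1}(q)`, `PΩ⁺_{2m}(q)`,
  `PΩ⁻_{2m}(q)` for `q` odd, whatever the centre of `Ω` is.
-/

set_option autoImplicit false
set_option linter.unusedSectionVars false

namespace Cfsg.Agent.H767.EMA

open QuadraticMap Module
open Cfsg.Agent.LieClassical.OrthCore Cfsg.Agent.H277.MI Cfsg.Agent.H104.UnfOrth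

universe u

variable {F : Type} [Field F] [Fintype F]

/-- the statement for a function `f` -/
theorem crow_of {ι : Type} [Fintype ι] [DecidableEq ι] (h2 : (2 : F) ≠ 0) {Q : QuadraticForm F (ι → F)}
    (hQ : Nondeg Q) (hd : 7 ≤ Fintype.card ι) {f : (ι → F) → F} (hf : f = ⇑Q) : CRow (Cfsg.POmega F f) := by
  subst hf
  exact crow_pomega h2 hQ hd

/-- **`PΩ⁺_{2m}(q)`, `q` odd** -/
theorem crow_plus_odd {L : Type u} [Group L] (hF : Odd (Fintype.card F)) {m : ℕ} (hm : 4 ≤ m)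
    (e : L ≃* Cfsg.POmega F (Cfsg.quadFormPlus m F)) : CRow L :=
  CRow.congr e (crow_of (two_ne hF) (Cfsg.Agent.LieClassical.OrthForms.nondeg_plusForm m F) (by simp; omega)
    (Cfsg.Agent.LieClassical.OrthForms.coe_plusForm m F).symm)

/-- **`PΩ⁻_{2m}(q)`, `q` odd** -/
theorem crow_minus_odd {L : Type u} [Group L] (hF : Odd (Fintype.card F)) {m : ℕ} (hm : 4 ≤ m) {a b : F}
    (hab : ∀ z₁ z₂ : F, z₁ ^ 2 + a * z₁ * z₂ + b * z₂ ^ 2 = 0 → z₁ = 0 ∧ z₂ = 0)
    (e : L ≃* Cfsg.POmega F (Cfsg.quadFormMinus (m - 1) F a b)) : CRow L :=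
  CRow.congr e (crow_of (two_ne hF) (Cfsg.Agent.LieClassical.OrthForms.nondeg_minusForm (m - 1) F a b hab)
    (by simp; omega) (Cfsg.Agent.LieClassical.OrthForms.coe_minusForm (m - 1) F a b).symm)

/-- **`PΩ_{2m+1}(q)`** -/
theorem crow_odd {L : Type u} [Group L] (h : Cfsg.IsPOmegaOdd L) : CRow L := by
  obtain ⟨F, _, _, m, hm, hF, ⟨e⟩⟩ := h
  exact CRow.congr e (crow_of (two_ne hF) (Cfsg.Agent.LieClassical.OrthForms.nondeg_oddForm m F (two_ne hF))
    (by simp; omega) (Cfsg.Agent.LieClassical.OrthForms.coe_oddForm m F).symm)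

end Cfsg.Agent.H767.EMA
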